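import Mathlib
import Groth.Agent.RegLoc.Basic
import Groth.Agent.RegLoc.AdicNoeth

/-!
Quasi-regularity of regular sequences and the blow-up valuation of a regular local ring.
-/

set_option autoImplicit false
set_option linter.style.haveILetI false
universe u
open MvPolynomial

noncomputable section

namespace Groth.Agent.RegDVR

open Groth.Agent.RegLoc.AdicNoeth

variable {A : Type u} [CommRing A]

theorem exists_of_mem_pow {σ : Type*} (a : σ → A) {J : Ideal A} (hJ : J = Ideal.span (Set.range a))
    {m : ℕ} {c : A} (hc : c ∈ J ^ (m + 1)) :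
    ∃ G : MvPolynomial σ A, G.IsHomogeneous m ∧ map (Ideal.Quotient.mk J) G = 0 ∧ eval a G = c := by
  rw [pow_succ'] at hc
  refine Submodule.mul_induction_on hc (fun u hu v hv => ?_) ?_
  · rw [hJ] at hv
    obtain ⟨G, hG, rfl⟩ := (Ideal.mem_span_pow_iff_exists_isHomogeneous a _).mp hv
    exact ⟨C u * G, hG.C_mul u, by
      rw [map_mul, map_C, Ideal.Quotient.eq_zero_iff_mem.mpr hu, map_zero, zero_mul],
      by rw [map_mul, eval_C]⟩
  · rintro u v ⟨G, hG, hG0, rfl⟩ ⟨G', hG', hG'0, rfl⟩
    exact ⟨G + G', hG.add hG', by rw [map_add, hG0, hG'0, add_zero], map_add _ _ _⟩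

/-- the coefficients vanish modulo the ideal. -/
def QR {σ : Type*} (a : σ → A) : Prop :=
  ∀ (m : ℕ) (F : MvPolynomial σ A), F.IsHomogeneous m → eval a F = 0 →
    map (Ideal.Quotient.mk (Ideal.span (Set.range a))) F = 0

theorem QR.of_mem_pow {σ : Type*} {a : σ → A} {m : ℕ}
    (h : ∀ (F : MvPolynomial σ A), F.IsHomogeneous m → eval a F = 0 →
      map (Ideal.Quotient.mk (Ideal.span (Set.range a))) F = 0)
    {F : MvPolynomial σ A} (hF : F.IsHomogeneous m)
    (hc : eval a F ∈ Ideal.span (Set.range a) ^ (m + 1)) :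
    map (Ideal.Quotient.mk (Ideal.span (Set.range a))) F = 0 := by
  obtain ⟨G, hG, hG0, hGF⟩ := exists_of_mem_pow a rfl hc
  have := h (F - G) (hF.sub hG) (by rw [map_sub, hGF, sub_self])
  rwa [map_sub, hG0, sub_zero] at this

theorem qr_succ {r : ℕ} (a : Fin (r + 1) → A) (hq : QR (a ∘ Fin.castSucc))
    (hreg : ∀ c : A, a (Fin.last r) * c ∈ Ideal.span (Set.range (a ∘ Fin.castSucc)) →
      c ∈ Ideal.span (Set.range (a ∘ Fin.castSucc))) : QR a := by
  classical
  let a' := a ∘ Fin.castSucc
  let I' := Ideal.span (Set.range a')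
  let I := Ideal.span (Set.range a)
  let x := a (Fin.last r)
  have hII : I' ≤ I := Ideal.span_mono (Set.range_comp_subset_range _ _)
  have hdiv : ∀ (t : ℕ) (c : A), x * c ∈ I' ^ t → c ∈ I' ^ t := by
    intro t
    induction t with
    | zero => intro c _; rw [pow_zero, Ideal.one_eq_top]; trivial
    | succ t ih =>
      intro c hc
      obtain ⟨H, hH, rfl⟩ := (Ideal.mem_span_pow_iff_exists_isHomogeneous a' _).mp
        (ih c (Ideal.pow_le_pow_right t.le_succ hc))
      have h0 := QR.of_mem_pow (hq t) (hH.C_mul x) (by rw [map_mul, eval_C]; exact hc)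
      refine mem_pow_succ_of_coeff_mem a' hH fun d => hreg _ ?_
      have h1 := congrArg (coeff d) h0
      rwa [coeff_map, coeff_C_mul, coeff_zero, Ideal.Quotient.eq_zero_iff_mem] at h1
  intro m
  induction m with
  | zero =>
    intro F hF h0
    have hc := (homogeneousComponent_of_mem hF (m := 0)).trans (if_pos rfl)
    rw [homogeneousComponent_zero] at hc
    rw [← hc, eval_C] at h0
    rw [← hc, h0, map_zero, map_zero]
  | succ m ih =>
    intro F hF h0
    let s : Fin (r + 1) → MvPolynomial (Fin r) A := Fin.snoc X 0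
    let F₀ := aeval s F
    have hs : ∀ i, (s i).IsHomogeneous 1 := fun i => by
      induction i using Fin.lastCases with
      | last => simp only [s, Fin.snoc_last]; exact isHomogeneous_zero _ _ _
      | cast j => simp only [s, Fin.snoc_castSucc]; exact isHomogeneous_X _ _
    have hF₀ : F₀.IsHomogeneous (m + 1) := by
      have := hF.aeval s hs
      rwa [one_mul] at this
    have hdvd : F - rename Fin.castSucc F₀ ∈ Ideal.span {(X (Fin.last r) : MvPolynomial (Fin (r + 1)) A)} := by
      rw [← Ideal.Quotient.eq]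
      have e : (Ideal.Quotient.mkₐ A (Ideal.span {(X (Fin.last r) : MvPolynomial (Fin (r + 1)) A)})).comp
          ((rename Fin.castSucc).comp (aeval s)) = Ideal.Quotient.mkₐ A _ := by
        refine algHom_ext fun i => ?_
        induction i using Fin.lastCases with
        | last => simp [s, Ideal.Quotient.eq_zero_iff_mem.mpr (Ideal.mem_span_singleton_self _)]
        | cast j => simp [s]
      exact (AlgHom.congr_fun e F).symm
    obtain ⟨H₀, hH₀⟩ := Ideal.mem_span_singleton'.mp hdvd
    let H := homogeneousComponent m H₀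
    have hH : H.IsHomogeneous m := homogeneousComponent_isHomogeneous _ _
    have hdec : F = rename Fin.castSucc F₀ + H * X (Fin.last r) := by
      have h1 := congrArg (homogeneousComponent (m + 1)) hH₀
      rw [map_sub, homogeneousComponent_of_mem hF, homogeneousComponent_of_mem hF₀.rename_isHomogeneous,
        if_pos rfl, if_pos rfl,
        homogeneousComponent_mul_of_isHomogeneous (isHomogeneous_X A (Fin.last r))] at h1
      simp only [le_add_iff_nonneg_left, zero_le, if_true, Nat.add_sub_cancel] at h1
      show F = _ + homogeneousComponent m H₀ * _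
      rw [h1, add_sub_cancel]
    have hev : eval a' F₀ + x * eval a H = 0 := by
      have := congrArg (eval a) hdec
      rw [h0, map_add, map_mul, eval_rename, eval_X, mul_comm] at this
      exact this.symm
    have hxm : x * eval a H ∈ I' ^ (m + 1) := by
      rw [eq_neg_of_add_eq_zero_right hev]
      exact neg_mem (mem_pow_of_isHomogeneous a' hF₀)
    have hHm := hdiv _ _ hxm
    obtain ⟨h, hh, hhH⟩ := (Ideal.mem_span_pow_iff_exists_isHomogeneous a' _).mp hHm
    have hH0 : map (Ideal.Quotient.mk I) H = 0 :=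
      QR.of_mem_pow ih hH (Ideal.pow_right_mono hII _ hHm)
    have h1 := hq (m + 1) (F₀ + C x * h) (hF₀.add (hh.C_mul x))
      (by rw [map_add, map_mul, eval_C, hhH, hev])
    have hF₀I : map (Ideal.Quotient.mk I) F₀ = 0 := by
      have h2 := congrArg (map (Ideal.Quotient.factor hII)) h1
      rw [map_map, Ideal.Quotient.factor_comp_mk, map_zero] at h2
      rw [map_add, map_mul, map_C,
        Ideal.Quotient.eq_zero_iff_mem.mpr (Ideal.subset_span ⟨Fin.last r, rfl⟩ : x ∈ I), map_zero, zero_mul,
        add_zero] at h2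
      exact h2
    rw [hdec, map_add, map_mul, hH0, zero_mul, add_zero, map_rename, hF₀I, map_zero]

theorem qr_of_weaklyRegular : ∀ {n : ℕ} (a : Fin n → A),
    RingTheory.Sequence.IsWeaklyRegular A (List.ofFn a) → QR a
  | 0, a, _ => fun m F _ h0 => by
    obtain ⟨c, rfl⟩ := C_surjective (Fin 0) F
    rw [eval_C] at h0
    rw [h0, map_zero, map_zero]
  | r + 1, a, h => by
    rw [List.ofFn_succ', List.concat_eq_append, RingTheory.Sequence.isWeaklyRegular_append_iff] at h
    refine qr_succ a (qr_of_weaklyRegular _ h.1) fun c hc => ?_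
    have h2 := ((RingTheory.Sequence.isWeaklyRegular_singleton_iff _ _).mp h.2)
    have hI : (Ideal.ofList (List.ofFn fun i => a i.castSucc) • ⊤ : Submodule A A) =
        Ideal.span (Set.range (a ∘ Fin.castSucc)) := by
      simp [Ideal.ofList, Ideal.mul_top, List.mem_ofFn]
      rfl
    rw [← hI] at hc ⊢
    rw [← Submodule.Quotient.mk_eq_zero]
    refine h2 ?_
    show a (Fin.last r) • Submodule.Quotient.mk c = a (Fin.last r) • _
    rw [smul_zero, ← Submodule.Quotient.mk_smul, Submodule.Quotient.mk_eq_zero]
    exact hc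

end Groth.Agent.RegDVR
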