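import Mathlib
import Groth.Agent.RegLoc.Basic
import Groth.Agent.RegDVR.Basic

/-!
The order valuation of a regular local ring: a DVR dominating it with purely transcendental residue field.
-/

set_option autoImplicit false
set_option linter.style.haveILetI false
universe u
open MvPolynomial IsLocalRing

noncomputable section

namespace Groth.Agent.RegDVR

variable {A : Type u} [CommRing A] {n : ℕ} (x : Fin n → A) (z : Fin n)

/-- Indices other than `z`. -/
abbrev Idx : Type u := ULift.{u} {i : Fin n // i ≠ z}

/-- homogenisation -/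
def homog (N : ℕ) (G : MvPolynomial (Idx z) A) : MvPolynomial (Fin n) A :=
  ∑ j ∈ Finset.range (N + 1), X z ^ (N - j) *
    rename (fun i : Idx z => i.down.1) (homogeneousComponent j G)

theorem homog_isHomogeneous (N : ℕ) (G : MvPolynomial (Idx z) A) : (homog z N G).IsHomogeneous N := by
  refine IsHomogeneous.sum _ _ _ fun j hj => ?_
  have h := ((isHomogeneous_X A z).pow (N - j)).mul
    ((homogeneousComponent_isHomogeneous j G).rename_isHomogeneous (f := fun i : Idx z => i.down.1))
  rwa [one_mul, Nat.sub_add_cancel (Finset.mem_range_succ_iff.mp hj)] at h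

theorem dehomog_map {k : Type u} [CommRing k] (π : A →+* k) (N : ℕ) (G : MvPolynomial (Idx z) A)
    (hN : G.totalDegree ≤ N) :
    aeval (fun i => if h : i = z then (1 : MvPolynomial (Idx z) k) else X ⟨⟨i, h⟩⟩)
      (MvPolynomial.map π (homog z N G)) = MvPolynomial.map π G := by
  simp only [homog, map_sum, map_mul, map_pow, map_X, aeval_X, dite_true, one_pow, one_mul, map_rename,
    aeval_rename]
  have h1 : (fun i => if h : i = z then (1 : MvPolynomial (Idx z) k) else X ⟨⟨i, h⟩⟩) ∘
      (fun i : Idx z => i.down.1) = X := by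
    funext i
    exact dif_neg i.down.2
  rw [← map_sum, ← map_sum, h1, aeval_X_left_apply]
  conv_rhs => rw [← sum_homogeneousComponent G]
  refine congrArg _ (Finset.sum_subset (Finset.range_subset_range.mpr (by omega)) fun j _ hj => ?_).symm
  exact homogeneousComponent_eq_zero _ _ (by simp at hj; omega)

variable {K : Type u} [Field K] [Algebra A K]

/-- `x i / x z`. -/
def tt (i : Idx z) : K := algebraMap A K (x i.down.1) / algebraMap A K (x z)

theorem algebraMap_eval_homog (hz : algebraMap A K (x z) ≠ 0) (N : ℕ) (G : MvPolynomial (Idx z) A)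
    (hN : G.totalDegree ≤ N) :
    algebraMap A K (eval x (homog z N G)) = algebraMap A K (x z) ^ N * aeval (tt x z (K := K)) G := by
  have key : ∀ j ≤ N, algebraMap A K (eval x (X z ^ (N - j) *
      rename (fun i : Idx z => i.down.1) (homogeneousComponent j G))) =
      algebraMap A K (x z) ^ N * aeval (tt x z (K := K)) (homogeneousComponent j G) := by
    intro j hj
    rw [map_mul, map_pow, eval_X, eval_rename, map_mul, map_pow,
      show algebraMap A K (eval (x ∘ fun i : Idx z => i.down.1) (homogeneousComponent j G)) =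
        aeval (fun i : Idx z => algebraMap A K (x i.down.1)) (homogeneousComponent j G) by
        rw [← aeval_eq_eval]; exact (aeval_algebraMap_apply K _ _).symm]
    conv_rhs => rw [show N = N - j + j by omega, pow_add, mul_assoc]
    refine congrArg _ ?_
    rw [aeval_def, aeval_def, eval₂_eq, eval₂_eq, Finset.mul_sum]
    refine Finset.sum_congr rfl fun d hd => ?_
    have hdeg : j = ∑ i ∈ d.support, d i := by
      rw [← Finsupp.degree_apply]
      exact ((homogeneousComponent_isHomogeneous j G) (mem_support_iff.mp hd) ▸ by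
        rw [Finsupp.degree_eq_weight_one]; rfl)
    rw [hdeg, ← Finset.prod_pow_eq_pow_sum, mul_left_comm, ← Finset.prod_mul_distrib]
    refine congrArg _ (Finset.prod_congr rfl fun i _ => ?_)
    rw [← mul_pow, tt, mul_div_cancel₀ _ hz]
  simp only [homog, map_sum]
  rw [Finset.sum_congr rfl (fun j hj => key j (Finset.mem_range_succ_iff.mp hj)), ← Finset.mul_sum,
    ← map_sum]
  refine congrArg _ (congrArg _ ?_)
  conv_rhs => rw [← sum_homogeneousComponent G]
  refine (Finset.sum_subset (Finset.range_subset_range.mpr (by omega)) fun j _ hj => ?_).symm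
  exact homogeneousComponent_eq_zero _ _ (by simp at hj; omega)

set_option maxHeartbeats 1000000 in
theorem exists_dvr (A : Type u) [CommRing A] [IsRegularLocalRing A] (hA : ¬ IsField A) :
    ∃ (V : Subalgebra A (FractionRing A)) (_ : IsDomain V) (_ : IsDiscreteValuationRing V),
      IsFractionRing V (FractionRing A) ∧
      (maximalIdeal V).comap (algebraMap A V) = maximalIdeal A ∧
      ∃ (φ : ResidueField A →+* ResidueField V),
        φ.comp (residue A) = (residue V).comp (algebraMap A V) ∧
        letI := φ.toAlgebra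
        ∃ (ι : Type u) (t : ι → ResidueField V), AlgebraicIndependent (ResidueField A) t ∧
          IntermediateField.adjoin (ResidueField A) (Set.range t) = ⊤ := by
  classical
  haveI := Groth.Agent.RegLoc.isDomain A
  obtain ⟨n, hn⟩ : ∃ n : ℕ, ringKrullDim A = n :=
    (Groth.Agent.RegLoc.exists_natCast_eq_ringKrullDim A).imp fun n h => h.1
  have hfg : (maximalIdeal A).spanFinrank = n := Groth.Agent.RegLoc.spanFinrank_eq_dim hn
  obtain ⟨x, hx⟩ : ∃ x : Fin n → A, Ideal.span (Set.range x) = maximalIdeal A := by
    obtain ⟨s, hs, hs'⟩ := Submodule.FG.exists_span_finset_card_eq_spanFinrank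
      (IsNoetherian.noetherian (maximalIdeal A))
    rw [hfg] at hs
    let e : Fin n ≃ (s : Finset A) := (Fintype.equivFinOfCardEq (by simp [hs])).symm
    refine ⟨fun i => (e i : A), ?_⟩
    rw [← hs']
    congr 1
    ext a
    exact ⟨by rintro ⟨i, rfl⟩; exact (e i).2, fun ha => ⟨e.symm ⟨a, ha⟩, by simp⟩⟩
  have hne : maximalIdeal A ≠ ⊥ := fun h => hA ((isField_iff_maximalIdeal_eq).mpr h)
  obtain ⟨z, hz0⟩ : ∃ z, x z ≠ 0 := by
    by_contra h
    push Not at h
    exact hne (by rw [← hx, Ideal.span_eq_bot]; rintro _ ⟨i, rfl⟩; exact h i)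
  let K := FractionRing A
  have hz : algebraMap A K (x z) ≠ 0 := (map_ne_zero_iff _ (IsFractionRing.injective A K)).mpr hz0
  let k := ResidueField A
  let π : A →+* k := residue A
  have hπ : ∀ {G : MvPolynomial (Fin n) A}, (∀ d, coeff d G ∈ maximalIdeal A) → MvPolynomial.map π G = 0 :=
    fun {G} h => MvPolynomial.ext _ _ fun d => by
      rw [coeff_map, coeff_zero]; exact (residue_eq_zero_iff _).mpr (h d)
  have hqr : QR x := qr_of_weaklyRegular x
    (Groth.Agent.RegLoc.isRegular_ofFn hn x hx).toIsWeaklyRegular
  have K1 : ∀ G G' : MvPolynomial (Idx z) A,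
      aeval (tt x z (K := K)) G = algebraMap A K (x z) * aeval (tt x z (K := K)) G' →
      MvPolynomial.map π G = 0 := by
    intro G G' hGG
    let N := max G.totalDegree G'.totalDegree
    have h1 : eval x (homog z N G) = x z * eval x (homog z N G') := by
      apply IsFractionRing.injective A K
      rw [map_mul, algebraMap_eval_homog x z hz N G (le_max_left _ _),
        algebraMap_eval_homog x z hz N G' (le_max_right _ _), hGG]
      ring
    have h2 := QR.of_mem_pow (hqr N) (homog_isHomogeneous z N G) (by
      rw [h1, pow_succ']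
      exact Ideal.mul_mem_mul (Ideal.subset_span ⟨z, rfl⟩)
        (Groth.Agent.RegLoc.AdicNoeth.mem_pow_of_isHomogeneous x (homog_isHomogeneous z N G')))
    have h3 : MvPolynomial.map π (homog z N G) = 0 := hπ fun d => by
      have := congrArg (coeff d) h2
      rw [coeff_map, coeff_zero, Ideal.Quotient.eq_zero_iff_mem, hx] at this
      exact this
    rw [← dehomog_map z π N G (le_max_left _ _), h3, map_zero]
  let Φ : MvPolynomial (Idx z) A →ₐ[A] K := aeval (tt x z (K := K))
  let B := Φ.range
  let x₀ : B := algebraMap A B (x z)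
  let P : Ideal B := Ideal.span {x₀}
  have hmP : ∀ a ∈ maximalIdeal A, algebraMap A B a ∈ P := by
    intro a ha
    rw [← hx] at ha
    induction ha using Submodule.span_induction with
    | mem w hw =>
      obtain ⟨i, rfl⟩ := hw
      by_cases hi : i = z
      · subst hi; exact Ideal.mem_span_singleton_self _
      · refine Ideal.mem_span_singleton'.mpr ⟨⟨Φ (X ⟨⟨i, hi⟩⟩), ⟨_, rfl⟩⟩, Subtype.ext ?_⟩
        show Φ (X ⟨⟨i, hi⟩⟩) * algebraMap A K (x z) = algebraMap A K (x i)
        simp only [Φ, aeval_X, tt, div_mul_cancel₀ _ hz]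
    | zero => rw [map_zero]; exact zero_mem _
    | add u v _ _ hu hv => rw [map_add]; exact add_mem hu hv
    | smul c u _ hu => rw [smul_eq_mul, map_mul]; exact Ideal.mul_mem_left _ _ hu
  have hPiff : ∀ G, (⟨Φ G, G, rfl⟩ : B) ∈ P ↔ MvPolynomial.map π G = 0 := by
    intro G
    constructor
    · intro h
      obtain ⟨⟨_, G', rfl⟩, hc⟩ := Ideal.mem_span_singleton'.mp h
      exact K1 G G' ((congrArg Subtype.val hc).symm.trans (mul_comm _ _))
    · intro h
      have : (⟨Φ G, G, rfl⟩ : B) = Φ.rangeRestrict G := rfl
      rw [this, ← support_sum_monomial_coeff G, map_sum]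
      refine sum_mem fun d _ => ?_
      rw [monomial_eq, map_mul, ← MvPolynomial.algebraMap_eq, AlgHom.commutes]
      refine Ideal.mul_mem_right _ _ (hmP _ ?_)
      have := congrArg (coeff d) h
      rw [coeff_map, coeff_zero] at this
      exact Ideal.Quotient.eq_zero_iff_mem.mp this
  haveI hP : P.IsPrime := by
    refine ⟨fun h => ?_, ?_⟩
    · have := (hPiff 1).mp (h.symm ▸ Submodule.mem_top)
      rw [map_one] at this
      exact one_ne_zero this
    · rintro ⟨_, G, rfl⟩ ⟨_, G', rfl⟩ h
      have := (hPiff (G * G')).mp (by convert h using 1; exact Subtype.ext (map_mul Φ G G'))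
      rw [map_mul] at this
      exact (mul_eq_zero.mp this).imp (hPiff G).mpr (hPiff G').mpr
  haveI : IsFractionRing B K := by
    apply IsFractionRing.of_field
    intro c
    obtain ⟨a, b, hb, rfl⟩ := IsFractionRing.div_surjective (A := A) c
    exact ⟨algebraMap A B a, algebraMap A B b, rfl⟩
  let V' : Subalgebra B K := Localization.subalgebra.ofField K P.primeCompl P.primeCompl_le_nonZeroDivisors
  haveI : IsLocalization.AtPrime V' P :=
    Localization.subalgebra.isLocalization_ofField K P.primeCompl P.primeCompl_le_nonZeroDivisors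
  haveI : IsLocalRing V' := IsLocalization.AtPrime.isLocalRing V' P
  haveI : Algebra.FiniteType A B :=
    Algebra.FiniteType.of_surjective Φ.rangeRestrict Φ.rangeRestrict_surjective
  haveI : IsNoetherianRing B := Algebra.FiniteType.isNoetherianRing A B
  haveI : IsNoetherianRing V' := IsLocalization.isNoetherianRing P.primeCompl V' inferInstance
  have hmax : maximalIdeal V' = Ideal.span {algebraMap B V' x₀} := by
    rw [← IsLocalization.AtPrime.map_eq_maximalIdeal P V', Ideal.map_span, Set.image_singleton]
  have hx₀ : algebraMap B V' x₀ ≠ 0 := fun h => hz (congrArg Subtype.val h)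
  haveI : IsDiscreteValuationRing V' := by
    haveI : (maximalIdeal V').IsPrincipal := ⟨⟨_, hmax⟩⟩
    have hnf : ¬ IsField V' := fun h => by
      rw [isField_iff_maximalIdeal_eq, hmax, Ideal.span_singleton_eq_bot] at h
      exact hx₀ h
    have h04 : IsDiscreteValuationRing V' ↔ (maximalIdeal V').IsPrincipal :=
      (IsDiscreteValuationRing.TFAE V' hnf).out 0 4
    exact h04.mpr inferInstance
  haveI hV'K : IsFractionRing V' K := by
    refine @IsFractionRing.of_field V' _ K _ _ inferInstance fun c => ?_
    obtain ⟨a, b, hb, rfl⟩ := IsFractionRing.div_surjective (A := A) c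
    exact ⟨algebraMap B V' (algebraMap A B a), algebraMap B V' (algebraMap A B b), rfl⟩
  let V : Subalgebra A K := V'.restrictScalars A
  haveI : IsLocalRing V := ‹IsLocalRing V'›
  haveI : IsDiscreteValuationRing V := ‹IsDiscreteValuationRing V'›
  have hcomap : (maximalIdeal V).comap (algebraMap A V) = maximalIdeal A := by
    refine ((maximalIdeal.isMaximal A).eq_of_le (Ideal.IsPrime.ne_top inferInstance) fun a ha => ?_).symm
    show (algebraMap B V' (algebraMap A B a)) ∈ maximalIdeal V'
    rw [← IsLocalization.AtPrime.map_eq_maximalIdeal P V']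
    exact Ideal.mem_map_of_mem _ (hmP a ha)
  haveI : IsLocalHom (algebraMap A V) :=
    ((local_hom_TFAE (algebraMap A V)).out 0 4).mpr hcomap
  let φ : k →+* ResidueField V := ResidueField.map (algebraMap A V)
  refine ⟨V, inferInstance, inferInstance, hV'K, hcomap, φ, ResidueField.map_comp_residue _, ?_⟩
  letI := φ.toAlgebra
  let toV : B →+* V := algebraMap B V'
  let ρ : B →+* ResidueField V := (residue V).comp toV
  let t : Idx z → ResidueField V := fun i => ρ (Φ.rangeRestrict (X i))
  have hρ : ∀ G, ρ (Φ.rangeRestrict G) = aeval t (MvPolynomial.map π G) := by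
    intro G
    induction G using MvPolynomial.induction_on with
    | C a =>
      rw [map_C, aeval_C, ← MvPolynomial.algebraMap_eq, AlgHom.commutes]
      rfl
    | add p q hp hq => simp only [map_add, hp, hq]
    | mul_X p i hp => simp only [map_mul, hp, map_X, aeval_X]; rfl
  refine ⟨Idx z, t, ?_, ?_⟩
  · rw [algebraicIndependent_iff]
    intro p hp
    obtain ⟨G, rfl⟩ := map_surjective π residue_surjective p
    rw [← hρ] at hp
    have h1 : toV (Φ.rangeRestrict G) ∈ maximalIdeal V := (residue_eq_zero_iff _).mp hp
    have h2 : Φ.rangeRestrict G ∈ P :=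
      (IsLocalization.AtPrime.to_map_mem_maximal_iff V' P _).mp h1
    exact (hPiff G).mp h2
  · refine top_unique fun w _ => ?_
    obtain ⟨v, rfl⟩ := residue_surjective w
    obtain ⟨b, s, hv⟩ := IsLocalization.exists_mk'_eq (S := V') P.primeCompl v
    subst hv
    have hin : ∀ c : B, ρ c ∈ IntermediateField.adjoin k (Set.range t) := by
      rintro ⟨_, G, rfl⟩
      show ρ (Φ.rangeRestrict G) ∈ _
      rw [hρ]
      exact IntermediateField.algebra_adjoin_le_adjoin k _
        (by rw [Algebra.adjoin_range_eq_range_aeval]; exact ⟨_, rfl⟩)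
    have hs : residue V (IsLocalization.mk' V' b s) * ρ (s : B) = ρ b :=
      ((residue V).map_mul _ _).symm.trans (congrArg (residue V) (IsLocalization.mk'_spec V' b s))
    have hne : ρ (s : B) ≠ 0 := fun h => s.2
      ((IsLocalization.AtPrime.to_map_mem_maximal_iff V' P _).mp ((residue_eq_zero_iff _).mp h))
    rw [eq_div_of_mul_eq hne hs]
    exact div_mem (hin b) (hin s)

end Groth.Agent.RegDVR
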